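import Mathlib
import Cfsg.Agent.Lib.StdE8.Good
import Cfsg.Agent.Lib.StdE8.Frame
import Cfsg.Agent.Lib.StdE8.Trace
import Cfsg.Agent.Lib.StdInt.Main

/-!
# A standard subgroup `2.Ω₈⁺(2)`: no conjugate of the central involution commutes with it
-/

set_option autoImplicit false

namespace CfsgLib.StdE8

open Subgroup Equiv CfsgLib.StdInt

variable {G : Type*} [Group G]

/-- `h` acts on the image of `L` as `x` -/
def Rep (ι : L →* G) (h : G) (x : X) : Prop := ∀ l m : L, (m : X) = x * l * x⁻¹ → h * ι l * h⁻¹ = ι m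

/-- the situation in the ambient group -/
structure Sit (ι : L →* G) (K : Subgroup G) : Prop where
  fx : StdInt.Fx ι.range K (ι tL)
  inj : Function.Injective ι
  rep : ∀ h, Commute h (ι tL) → ∃ x, Rep ι h x
  cK : ∀ k, (∀ l, Commute k (ι l)) → k ∈ K
  inv : ∀ k ∈ K, k * k = 1 → k = 1 ∨ k = ι tL

variable {ι : L →* G} {K : Subgroup G} {g h k s : G} {x y : X}

/-- conjugation of `L` by `X` -/
def cl (x : X) (l : L) : L := ⟨x * l * x⁻¹, conj_mem_L.2 l.2⟩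

theorem Rep.eq (r : Rep ι h x) (l : L) : h * ι l * h⁻¹ = ι (cl x l) := r l _ rfl

theorem Rep.mul (r : Rep ι h x) (r' : Rep ι k y) : Rep ι (h * k) (x * y) := fun l m e => by
  rw [← r (cl y l) m (by rw [e, cl]; group), ← r'.eq]; group

theorem rep_self (l : L) : Rep ι (ι l) l := fun a b e => by
  rw [show b = l * a * l⁻¹ from Subtype.ext e, map_mul, map_mul, map_inv]

theorem Rep.mul_t (r : Rep ι h (x * t)) : Rep ι h x := fun l m e =>
  r l m (by rw [e, mul_inv_rev, mul_assoc x t, ← (t_comm _).eq]; group)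

theorem Rep.conj (r : Rep ι h x) (l : L) : Rep ι (ι l * h * (ι l)⁻¹) (l * x * (l : X)⁻¹) :=
  map_inv ι l ▸ ((rep_self l).mul r).mul (rep_self l⁻¹)

theorem Rep.conj_eq (r : Rep ι h x) {l m : L} (e : (m : X) = l * x * (l : X)⁻¹ * x⁻¹) :
    ι l * h * (ι l)⁻¹ = ι m * h := by
  rw [show m = l * cl x l⁻¹ from Subtype.ext (by rw [e]; simp [cl, mul_assoc]), map_mul, ← r.eq, map_inv]; group

/-- the class of the central involution -/
def Dc (ι : L →* G) (s : G) : Prop := ∃ g, g * ι tL * g⁻¹ = s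

theorem Dc.conj (d : Dc ι s) (g : G) : Dc ι (g * s * g⁻¹) := by
  obtain ⟨k, rfl⟩ := d
  exact ⟨g * k, by group⟩

theorem Dc.conj' (d : Dc ι s) (g : G) : Dc ι (g⁻¹ * s * g) := by simpa using d.conj g⁻¹

theorem Dc.of_conj {a b l : L} (d : Dc ι (ι a)) (e : (l : X) * a * (l : X)⁻¹ = b) : Dc ι (ι b) := by
  have := d.conj (ι l)
  rwa [(rep_self l) a b e.symm] at this

theorem dc_t : Dc ι (ι tL) := ⟨1, by group⟩

theorem ι_comm_t (l : L) : Commute (ι l) (ι tL) := Commute.map (Subtype.ext (t_comm l) : Commute l tL) ι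

namespace Sit

variable (a : Sit ι K)
include a

theorem comm_iff (r : Rep ι h x) {l : L} : Commute h (ι l) ↔ Commute x l := by
  rw [Commute, SemiconjBy, ← mul_inv_eq_iff_eq_mul, r.eq, a.inj.eq_iff, Subtype.ext_iff, cl, mul_inv_eq_iff_eq_mul]
  rfl

theorem uniq (r : Rep ι h x) (r' : Rep ι h y) : x = y ∨ x = y * t :=
  (cent_L (g := y⁻¹ * x) fun l hl => by
    have := congrArg Subtype.val (a.inj ((r.eq ⟨l, hl⟩).symm.trans (r'.eq ⟨l, hl⟩)))
    exact mul_inv_eq_iff_eq_mul.1 (by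
      rw [show y⁻¹ * x * l * (y⁻¹ * x)⁻¹ = y⁻¹ * (x * l * x⁻¹) * y by group, show x * l * x⁻¹ = y * l * y⁻¹ from this]
      group)).imp (fun e => (inv_mul_eq_one.1 e).symm) inv_mul_eq_iff_eq_mul.1

theorem mem_W (r : Rep ι h x) {v : L} : ι v ∈ WG ι.range h ↔ (v : X) ∈ WG L x := by
  have o : ∀ w : L, orderOf (ι w) = orderOf (w : X) := fun w => by rw [orderOf_injective ι a.inj, orderOf_coe]
  constructor
  · suffices k : ∀ u ∈ WG ι.range h, ∃ w : L, ι w = u ∧ (w : X) ∈ WG L x from fun hv => by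
      obtain ⟨w, e, hw⟩ := k _ hv
      rwa [← a.inj e]
    intro u hu
    induction hu using closure_induction with
    | mem u hu =>
      obtain ⟨⟨w, rfl⟩, h1, h2⟩ := hu
      exact ⟨w, rfl, mem_WG (o w ▸ h1) ((a.comm_iff r).1 h2)⟩
    | one => exact ⟨1, map_one ι, one_mem _⟩
    | mul _ _ _ _ h1 h2 =>
      obtain ⟨w, rfl, h1⟩ := h1
      obtain ⟨z, rfl, h2⟩ := h2
      exact ⟨w * z, map_mul ι w z, mul_mem h1 h2⟩
    | inv _ _ h1 =>
      obtain ⟨w, rfl, h1⟩ := h1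
      exact ⟨w⁻¹, map_inv ι w, inv_mem h1⟩
  · suffices k : ∀ u (hu : u ∈ WG L x), ι ⟨u, (WG_le hu).1⟩ ∈ WG ι.range h from fun hv => k _ hv
    intro u hu
    induction hu using closure_induction with
    | mem u hu => exact subset_closure ⟨⟨_, rfl⟩, (o ⟨u, hu.1⟩).symm ▸ hu.2.1, (a.comm_iff r).2 hu.2.2⟩
    | one => exact (map_one ι).symm ▸ one_mem _
    | mul u w hu hw h1 h2 => exact (map_mul ι ⟨u, (WG_le hu).1⟩ ⟨w, (WG_le hw).1⟩).symm ▸ mul_mem h1 h2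
    | inv u hu h1 => exact (map_inv ι ⟨u, (WG_le hu).1⟩).symm ▸ inv_mem h1

theorem two_iff {v : L} : Two (ι v) ↔ Two (v : X) :=
  (exists_congr fun k => by rw [← map_pow, map_eq_one_iff ι a.inj]).trans two_coe.symm

theorem sq (d : Dc ι s) : s * s = 1 := by
  obtain ⟨g, rfl⟩ := d
  exact (a.fx.toHalf.conj g).sq

theorem sqL {z : L} (d : Dc ι (ι z)) : (z : X) * z = 1 :=
  congrArg Subtype.val ((map_eq_one_iff ι a.inj).1 (map_mul ι z z ▸ a.sq d))

theorem neL {z : L} (d : Dc ι (ι z)) : (z : X) ≠ 1 := fun e => by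
  obtain ⟨g, e1⟩ := d
  exact (a.fx.toHalf.conj g).ne (by rw [e1, show z = 1 from Subtype.ext e, map_one])

theorem rep_sq (d : Dc ι s) (r : Rep ι s x) : x * x = 1 ∨ x * x = t := by
  have := r.mul r
  rw [a.sq d, ← map_one ι] at this
  simpa using a.uniq this (rep_self 1)

theorem inner (d : Dc ι s) {z : L} (r : Rep ι s z) (hz : (z : X) * z = 1) : s = ι z ∨ s = ι (z * tL) := by
  have h1 : (ι z)⁻¹ * s ∈ K := a.cK _ fun l => by
    have := (rep_self z⁻¹).mul r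
    rw [map_inv] at this
    exact (a.comm_iff this).2 (by simp)
  have h2 : Commute s (ι z) := (a.comm_iff r).2 rfl
  refine (a.inv _ h1 ?_).imp (fun e => (inv_mul_eq_one.1 e).symm) fun e => by rw [map_mul, ← e]; group
  rw [mul_assoc, ← mul_assoc s, h2.inv_right.eq, mul_assoc, a.sq d, mul_one, ← mul_inv_rev, ← map_mul,
    show z * z = 1 from Subtype.ext hz, map_one, inv_one]

variable [Finite G]

/-- transport of 2-elements -/
theorem tr (e : g * ι tL * g⁻¹ = s) (c : Commute s (ι tL)) (n : s ≠ ι tL) {v : G} (hv : v ∈ WG ι.range s)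
    (h2 : Two v) : g⁻¹ * v * g ∈ WG ι.range (g⁻¹ * ι tL * g) := by
  subst e
  exact mem_WG_cj ((a.fx.pair c n).two_mem hv h2)

theorem tr' (e : g * ι tL * g⁻¹ = s) (c : Commute s (ι tL)) (n : s ≠ ι tL) {v : G}
    (hv : v ∈ WG ι.range (g⁻¹ * ι tL * g)) (h2 : Two v) : g * v * g⁻¹ ∈ WG ι.range s := by
  subst e
  simpa using a.tr rfl (inv_comm c) (inv_ne n) (by simpa using hv) h2

omit a [Finite G] in
theorem ne' (e : g * ι tL * g⁻¹ = s) (n : s ≠ ι tL) {z : L} (e1 : ι z = g⁻¹ * ι tL * g) : (z : X) ≠ t := fun x =>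
  n (by rw [show z = tL from Subtype.ext x] at e1; rw [← e]; nth_rw 1 [e1]; group)

omit [Finite G] in
theorem rep_ne (d : Dc ι s) (c : Commute s (ι tL)) (n : s ≠ ι tL) (r : Rep ι s x) : x ≠ 1 ∧ x ≠ t := by
  obtain ⟨g, rfl⟩ := d
  have h := mt (a.cK _) (a.fx.pair c n).sK
  exact ⟨fun e => h fun l => (a.comm_iff r).2 (e ▸ Commute.one_left _),
    fun e => h fun l => (a.comm_iff r).2 (e ▸ (t_comm _).symm)⟩

omit [Finite G] in
theorem ne_t {z : L} (j : Fin 8) (h : (ap z (fr j) : V) = fr j) : ι z ≠ ι tL := fun x =>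
  ne_t_of_fix (Subtype.ext h) (congrArg Subtype.val (a.inj x))

omit a [Finite G] in
theorem comm' (e : g * ι tL * g⁻¹ = s) (c : Commute s (ι tL)) : Commute (g⁻¹ * ι tL * g) (ι tL) :=
  comm_conj.1 (e ▸ c).symm

omit a [Finite G] in
theorem ne'' (e : g * ι tL * g⁻¹ = s) (n : s ≠ ι tL) : g⁻¹ * ι tL * g ≠ ι tL := fun x =>
  n (by rw [← e]; nth_rw 1 [← x]; group)

theorem t_iff (e : g * ι tL * g⁻¹ = s) (c : Commute s (ι tL)) (n : s ≠ ι tL) :
    ι tL ∈ WG ι.range s ↔ g⁻¹ * ι tL * g ∈ WG ι.range (g⁻¹ * ι tL * g) :=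
  ⟨fun h => a.tr e c n h (two_of_sq a.fx.sq), fun h => by
    simpa [mul_assoc] using a.tr' e c n h (two_of_sq (a.sq (dc_t.conj' g)))⟩

theorem s_iff (e : g * ι tL * g⁻¹ = s) (c : Commute s (ι tL)) (n : s ≠ ι tL) :
    s ∈ WG ι.range s ↔ ι tL ∈ WG ι.range (g⁻¹ * ι tL * g) :=
  ⟨fun h => by simpa [← e, mul_assoc] using a.tr e c n h (two_of_sq (a.sq ⟨g, e⟩)),
    fun h => e ▸ a.tr' rfl (e ▸ c) (e ▸ n) h (two_of_sq a.fx.sq)⟩

omit a [Finite G] in
theorem W_bc {z l : X} (e : l * z * l⁻¹ = xb ∨ l * z * l⁻¹ = xc) : z ∈ WG L z ∧ t ∈ WG L z ∧ StdE8.tr z = 0 := by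
  rw [← mem_WG_conj (g := l), ← mem_WG_conj (g := l) (w := t), conj_t, ← tr_conj l]
  rcases e with e | e <;> rw [e]
  exacts [⟨xb_mem_Wb, t_mem_Wb, tr_xb⟩, ⟨xc_mem_Wc, t_mem_Wc, tr_xc⟩]

/-- no conjugate of `t` acts as a square root of `-1` -/
theorem no_i (d : Dc ι s) (c : Commute s (ι tL)) (n : s ≠ ι tL) (r : Rep ι s x) : x * x = 1 := by
  refine (a.rep_sq d r).resolve_right fun hx => ?_
  obtain ⟨g, e⟩ := id d
  obtain ⟨y, hy⟩ := cls_i hx
  have h1 : x ∈ WG L x := (mem_WG_conj (g := y)).1 (hy.symm ▸ xi_mem_Wi)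
  let z : L := ⟨x, (WG_le h1).1⟩
  have h2 := (a.t_iff e c n).1 ((a.mem_W r).2 (show t ∈ _ from hx ▸ mul_mem h1 h1))
  obtain ⟨z', e1⟩ := (WG_le h2).1
  have d' : Dc ι (ι z') := e1 ▸ dc_t.conj' g
  obtain ⟨l, -, h3⟩ := cls_L z'.2 (a.sqL d') (a.neL d') (ne' e n e1)
  have h4 : (z' : X) ∈ WG L z' := (a.mem_W (rep_self z')).1 (e1.symm ▸ h2)
  rcases h3 with h3 | h3 | h3
  · exact xa_notMem_Wa (h3 ▸ conj_mem_WG h4)
  · have t2 : Two x := ⟨2, by rw [show 2 ^ 2 = 2 * 2 from rfl, pow_mul, pow_two x, hx, pow_two, t_sq]⟩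
    obtain ⟨v, e2⟩ := (WG_le (a.tr e c n ((a.mem_W r (v := z)).2 h1) (a.two_iff.2 t2))).1
    obtain ⟨u, hu, h5⟩ := cent_a (y := l * v * l⁻¹) fun w hw h2 => by
      rw [← WG_mul_t, ← h3] at hw
      have h5 : l⁻¹ * w * l ∈ WG L z' := by simpa [mul_assoc] using conj_mem_WG (g := l⁻¹) hw
      have h6 := a.tr' e c n (e1 ▸ (a.mem_W (rep_self z') (v := ⟨_, (WG_le h5).1⟩)).2 h5)
        (a.two_iff.2 (by simpa using two_conj l⁻¹ h2))
      obtain ⟨p, e3⟩ := (WG_le h6).1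
      have h7 := (a.comm_iff (rep_self z)).2 ((a.comm_iff r).1 (e3 ▸ WG_comm h6).symm)
      rw [e3, comm_conj, ← e2] at h7
      exact (comm_conj.2 ((a.comm_iff (rep_self v)).1 h7).symm).symm
    have h6 : (v : X) * v = z' := congrArg Subtype.val (a.inj (show ι (v * v) = ι z' by
      rw [map_mul, e2, e1, ← show z * z = tL from Subtype.ext hx, map_mul]; group))
    have h7 : l * v * l⁻¹ * (l * v * l⁻¹) = 1 := by
      simp only [List.mem_cons, List.not_mem_nil, or_false] at hu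
      rcases h5 with h5 | h5 <;> rw [h5] <;> rcases hu with rfl | rfl | rfl | rfl <;> exact ext_dec (by decide)
    rw [conj_mul, h6, conj_eq_one_iff] at h7
    exact a.neL d' h7
  · obtain ⟨w, e2⟩ := (WG_le ((a.s_iff e c n).2 (e1 ▸ (a.mem_W (rep_self z')).2 (W_bc h3).2.1))).1
    have h5 := a.sqL (e2 ▸ d)
    refine t_ne (hx.symm.trans ?_)
    rcases a.uniq r (e2 ▸ rep_self w) with h6 | h6 <;> rw [h6]
    · exact h5
    · rw [(t_comm _).symm.mul_mul_mul_comm, h5, t_sq, one_mul]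

theorem no_at {z : L} (d : Dc ι (ι z)) {l : X} (hl : l * z * l⁻¹ = xa * t) : False := by
  obtain ⟨g, e⟩ := id d
  have n : ι z ≠ ι tL := fun x => by
    rw [a.inj x, tL, conj_t] at hl
    exact absurd (tr_xa ▸ congrArg StdE8.tr (mul_eq_right.1 hl.symm)) (by decide)
  have c := ι_comm_t (ι := ι) z
  have h1 := (a.s_iff e c n).1 ((a.mem_W (rep_self z)).2 ((mem_WG_conj (g := l)).1
    (by rw [hl, WG_mul_t]; exact xat_mem_Wa)))
  have c' := comm' e c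
  have n' := ne'' e n
  have d' := (dc_t (ι := ι)).conj' g
  obtain ⟨x, r⟩ := a.rep _ c'
  have h2 := a.no_i d' c' n' r
  obtain ⟨u, hu, m, hm, h3⟩ := cls h2 (a.rep_ne d' c' n' r).1 (a.rep_ne d' c' n' r).2
  have h4 : WG L (m * x * m⁻¹) = WG L u := h3.elim (congrArg _) fun e => by rw [e, WG_mul_t]
  have h5 : t ∈ WG L u := h4 ▸ conj_t m ▸ conj_mem_WG ((a.mem_W r).1 h1)
  have k : u ∈ L → u ∈ WG L u → False := fun h6 h7 => by
    have h8 : x ∈ WG L x := (mem_WG_conj (g := m)).1 (h4 ▸ h3.elim (fun e => e ▸ h7) fun e => e ▸ mul_mem h7 h5)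
    have h9 := (a.mem_W r (v := ⟨x, (WG_le h8).1⟩)).2 h8
    have := (a.mem_W (rep_self z)).1 ((a.t_iff e c n).2 (by
      rcases a.inner d' (z := ⟨x, (WG_le h8).1⟩) r h2 with h | h
      · rwa [← h] at h9
      · have := mul_mem h9 h1
        rwa [← map_mul, ← h] at this))
    exact t_notMem_Wa (by rw [← WG_mul_t, ← hl, ← conj_t l]; exact conj_mem_WG this)
  simp only [List.mem_cons, List.not_mem_nil, or_false] at hu
  rcases hu with rfl | rfl | rfl | rfl | rfl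
  exacts [t_notMem_Wr h5, t_notMem_Wf h5, t_notMem_Wa h5, k xb_mem xb_mem_Wb, k xc_mem xc_mem_Wc]

/-- the element of `L` with the given value -/
abbrev _root_.CfsgLib.StdE8.aL : L := ⟨xa, xa_mem⟩

omit a [Finite G] in
theorem sg_mul' (S T : Finset (Fin 8)) (hS hT) : sg S hS * sg T hT = sg (symmDiff S T) (even_symmDiff hS hT) :=
  sg_mul _ _ _ _ _

theorem swap_a (d : Dc ι (ι aL)) : ∃ g, g * ι tL * g⁻¹ = ι aL ∧ g⁻¹ * ι tL * g = ι aL := by
  obtain ⟨g, e⟩ := id d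
  have n : ι aL ≠ ι tL := a.ne_t 2 (by decide)
  have c := ι_comm_t (ι := ι) aL
  have h1 := (WG_le (a.tr e c n ((a.mem_W (rep_self aL) (v := aL * tL)).2 xat_mem_Wa)
    (a.two_iff.2 (two_of_sq (ext_dec (by decide)))))).1
  rw [map_mul, ← e, show g⁻¹ * (g * ι tL * g⁻¹ * ι tL) * g = ι tL * (g⁻¹ * ι tL * g) by group] at h1
  obtain ⟨z, e1⟩ := (Subgroup.mul_mem_cancel_left ι.range ⟨tL, rfl⟩).1 h1
  have d' : Dc ι (ι z) := e1 ▸ dc_t.conj' g
  obtain ⟨l, hl, h3 | h3 | h3⟩ := cls_L z.2 (a.sqL d') (a.neL d') (ne' e n e1)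
  · refine ⟨g * (ι ⟨l, hl⟩)⁻¹, ?_, ?_⟩
    · rw [← e, mul_assoc g, (ι_comm_t _).inv_left.eq]; group
    · rw [← rep_self ⟨l, hl⟩ z aL h3.symm, e1]; group
  · exact (a.no_at d' h3).elim
  · exact absurd ((a.mem_W (rep_self aL)).1 ((a.t_iff e c n).2 (e1 ▸ (a.mem_W (rep_self z)).2 (W_bc h3).1)))
      t_notMem_Wa

theorem no_a (d : Dc ι (ι aL)) : False := by
  obtain ⟨g, e, e'⟩ := a.swap_a d
  have n : ι aL ≠ ι tL := a.ne_t 2 (by decide)
  have c := ι_comm_t (ι := ι) aL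
  have r := rep_self (ι := ι) aL
  -- both `g` and `g⁻¹` keep the 2-elements of `W(a)` and the subgroup `P`
  have k : ∀ {g : G}, g * ι tL * g⁻¹ = ι aL → g⁻¹ * ι tL * g = ι aL → ∀ v : L, (v : X) ∈ WG L xa → Two (v : X) →
      ∃ w : L, ι w = g⁻¹ * ι v * g ∧ (w : X) ∈ WG L xa ∧ Two (w : X) := fun {g} e e' v hv h2 => by
    have h1 := e' ▸ a.tr e c n ((a.mem_W r).2 hv) (a.two_iff.2 h2)
    obtain ⟨w, hw⟩ := (WG_le h1).1
    exact ⟨w, hw, (a.mem_W r).1 (hw ▸ h1), a.two_iff.1 (hw ▸ by simpa using two_conj g⁻¹ (a.two_iff.2 h2))⟩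
  have kP : ∀ {g : G}, g * ι tL * g⁻¹ = ι aL → g⁻¹ * ι tL * g = ι aL → ∀ v : L, InP v →
      ∃ w : L, ι w = g⁻¹ * ι v * g ∧ InP w := fun {g} e e' v hv => by
    obtain ⟨w, hw, h1, -⟩ := k e e' v hv.mem (by obtain ⟨S, hS, -, -, e⟩ := hv; exact two_of_sq (e ▸ sg_sq _ _))
    refine ⟨w, hw, (inP_iff h1).2 fun u hu h2 => ?_⟩
    obtain ⟨p, hp, h3, h4⟩ := k (g := g⁻¹) (by simpa using e') (by simpa using e) ⟨u, (WG_le hu).1⟩ hu h2
    have h5 := (a.comm_iff (rep_self v) (l := p * v * p⁻¹)).2 ((inP_iff hv.mem).1 hv _ h3 h4)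
    refine (a.comm_iff (rep_self w) (l := ⟨u, (WG_le hu).1⟩ * w * ⟨u, (WG_le hu).1⟩⁻¹)).1 ?_
    simp only [map_mul, map_inv, hp, hw] at h5 ⊢
    simpa [mul_assoc] using h5.map (MulAut.conj g⁻¹)
  -- the subgroup `B₀ = ⟨P, a⟩`
  have kB : ∀ S hS, (0 ∈ S ↔ 1 ∈ S) → ∃ T hT, (0 ∈ T ↔ 1 ∈ T) ∧
      ι ⟨sg T hT, sg_mem_L _ _⟩ = g⁻¹ * ι ⟨sg S hS, sg_mem_L _ _⟩ * g := fun S hS h => by
    by_cases h0 : 0 ∈ S
    · obtain ⟨w, hw, T, hT, h1, h2, e1⟩ := kP e e' (⟨sg S hS, sg_mem_L _ _⟩ * aL) ⟨_, _, by simp [h0, Finset.mem_symmDiff],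
        by simp [h.1 h0, Finset.mem_symmDiff], sg_mul' S {0, 1} hS (by decide)⟩
      refine ⟨symmDiff T Finset.univ, even_symmDiff hT (by decide), by simp [h1, h2, Finset.mem_symmDiff], ?_⟩
      rw [show (⟨sg (symmDiff T Finset.univ) _, sg_mem_L _ _⟩ : L) = w * tL from
        Subtype.ext ((sg_mul' _ _ hT (by decide)).symm.trans (congrArg (· * t) e1.symm)), map_mul, hw, map_mul, ← e]
      simp [mul_assoc, a.fx.sq]
    · obtain ⟨w, hw, T, hT, h1, h2, e1⟩ := kP e e' ⟨sg S hS, sg_mem_L _ _⟩ ⟨_, hS, h0, mt h.2 h0, rfl⟩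
      exact ⟨T, hT, iff_of_false h1 h2, by rw [← hw]; exact congrArg ι (Subtype.ext e1.symm)⟩
  let β : L := ⟨sg {0, 2} (by decide), sg_mem_L _ _⟩
  have dβ : Dc ι (g * ι β * g⁻¹) := (d.of_conj (l := ⟨pm (swap 1 2 * swap 3 4), pm_mem_L.2 (by decide)⟩)
    (b := β) (ext_dec (by decide))).conj g
  have cβ : Commute (g * ι β * g⁻¹) (ι tL) :=
    (comm_conj.2 (e' ▸ (a.comm_iff r).2 (ext_dec (by decide)))).symm
  have nβ : g * ι β * g⁻¹ ≠ ι tL := fun x => absurd (congrArg (fun u : L => (ap u (fr 0) : V))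
    (a.inj (show ι β = ι aL by rw [← e', ← x]; group))) (by decide)
  obtain ⟨x, rx⟩ := a.rep _ cβ
  have x2 := a.no_i dβ cβ nβ rx
  obtain ⟨S, hS, hx⟩ := cent_P (y := x) fun v hv => by
    obtain ⟨w, hw, T, hT, -, -, e1⟩ := kP e e' ⟨v, (WG_le hv.mem).1⟩ hv
    exact (a.comm_iff rx (l := ⟨v, (WG_le hv.mem).1⟩)).1 (comm_conj.2 (hw ▸
      (a.comm_iff (rep_self w)).2 (e1 ▸ sg_comm T {0, 2} hT (by decide)))).symm
  have nB : ∀ T hT, (0 ∈ T ↔ 1 ∈ T) → (∀ v ∈ WG L xa, Two v → Commute (sg T hT * β) v) → False := fun T hT h1 h2 => by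
    obtain ⟨z, hz, h3⟩ := cent_a h2
    have h4 : sg T hT * β ∈ L := mul_mem (sg_mem_L _ _) β.2
    have h5 : ∃ U hU, (0 ∈ U ↔ 1 ∈ U) ∧ z = sg U hU := by
      simp only [List.mem_cons, List.not_mem_nil, or_false] at hz
      rcases hz with rfl | rfl | rfl | rfl
      exacts [⟨∅, by decide, by decide, (sg_empty _).symm⟩, ⟨Finset.univ, by decide, by decide, rfl⟩,
        ⟨{0, 1}, by decide, by decide, rfl⟩, ⟨_, _, by decide, sg_mul' {0, 1} Finset.univ (by decide) (by decide)⟩]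
    obtain ⟨U, hU, h5, rfl⟩ := h5
    rcases h3 with h3 | h3
    · have := (mono_inj (σ := 1) (τ := 1) (congrArg (· * pm 1) ((sg_mul' _ {0, 2} hT (by decide)).symm.trans h3))).1
      simp [← this, Finset.mem_symmDiff, h1] at h5
    · exact xr_notMem ((mul_mem_cancel_left (sg_mem_L _ _)).1 (h3 ▸ h4))
  rcases hx with rfl | rfl
  · obtain ⟨T, hT, e1⟩ : ∃ T hT, g * ι β * g⁻¹ = ι ⟨sg T hT, sg_mem_L _ _⟩ := by
      rcases a.inner dβ (z := ⟨_, sg_mem_L S hS⟩) rx x2 with h | h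
      exacts [⟨_, hS, h⟩, ⟨_, even_symmDiff hS (by decide),
        h.trans (congrArg ι (Subtype.ext (sg_mul' _ Finset.univ hS (by decide))))⟩]
    by_cases h : 0 ∈ T ↔ 1 ∈ T
    · obtain ⟨U, hU, h1, h2⟩ := kB T hT h
      refine nB U hU h1 fun v _ _ => ?_
      rw [show sg U hU = β from congrArg Subtype.val (a.inj (show ι ⟨sg U hU, _⟩ = _ by rw [h2, ← e1]; group)), sg_sq]
      exact Commute.one_left v
    · obtain ⟨c, h1, h2⟩ : ∃ c ∈ [swap 0 1 * swap 2 3, swap 0 1 * swap 2 4, swap 0 1 * swap (3 : Fin 8) 4],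
          T.map c.toEmbedding = symmDiff {0, 1} T := by
        clear e1 hT
        revert T
        decide +kernel
      have h4 : pm c ∈ L := pm_mem_L.2 (by
        simp only [List.mem_cons, List.not_mem_nil, or_false] at h1
        rcases h1 with rfl | rfl | rfl <;> decide)
      have h3 := (Dc.of_conj (e1 ▸ dβ) (a := ⟨sg T hT, sg_mem_L _ _⟩) (l := ⟨pm c, h4⟩) (b := aL * ⟨sg T hT, sg_mem_L _ _⟩)
        ((conj_sg _ _ hT (even_map _ hT)).trans ((sg_congr _ h2).trans (sg_mul' {0, 1} _ (by decide) hT).symm))).conj' g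
      rw [map_mul, ← e, ← e1, show g⁻¹ * (g * ι tL * g⁻¹ * (g * ι β * g⁻¹)) * g = ι tL * ι β by group, ← map_mul] at h3
      exact a.no_at h3 (l := pm (swap 1 2)) (ext_dec (by decide))
  · have h : 0 ∈ S ↔ 1 ∈ S := by
      have := (mono_inj (hT := by decide) (τ := 1) (T := ∅) ((mono_mul S S hS hS _ _).symm.trans
        (x2.trans (by rw [sg_empty, pm_one, one_mul])))).1
      clear rx x2 hS
      revert S
      decide +kernel
    obtain ⟨U, hU, h1, h2⟩ := kB S hS h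
    refine nB U hU h1 fun v hv h3 => ?_
    obtain ⟨w, hw, h4, -⟩ := k (g := g⁻¹) (by simpa using e') (by simpa using e) ⟨v, (WG_le hv).1⟩ hv h3
    have h5 := (a.comm_iff ((rep_self ⟨sg S hS, sg_mem_L _ _⟩).mul rx) (l := w)).2 (by
      rw [← mul_assoc, sg_sq, one_mul]; exact xr_comm_Wa h4)
    refine (a.comm_iff (rep_self (⟨sg U hU, sg_mem_L _ _⟩ * β)) (l := ⟨v, (WG_le hv).1⟩)).1 ?_
    rw [map_mul, h2]
    rw [hw] at h5
    simpa [mul_assoc] using h5.map (MulAut.conj g⁻¹)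

/-- the partner of an element of type `b` or `c` -/
theorem partner {z : L} (e : g * ι tL * g⁻¹ = ι z) (n : ι z ≠ ι tL) (h1 : t ∈ WG L z) :
    ∃ z' : L, ι z' = g⁻¹ * ι tL * g ∧ StdE8.tr z' = 0 := by
  obtain ⟨z', e1⟩ := (WG_le ((a.t_iff e (ι_comm_t z) n).1 ((a.mem_W (rep_self z)).2 h1))).1
  have d' : Dc ι (ι z') := e1 ▸ dc_t.conj' g
  obtain ⟨l, hl, h3 | h3 | h3⟩ := cls_L z'.2 (a.sqL d') (a.neL d') (ne' e n e1)
  exacts [(a.no_a (d'.of_conj (l := ⟨l, hl⟩) h3)).elim, (a.no_at d' h3).elim, ⟨z', e1, (W_bc h3).2.2⟩]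

theorem no_b (d : Dc ι (ι ⟨xb, xb_mem⟩)) : False := by
  obtain ⟨g, e⟩ := d
  have n : ι ⟨xb, xb_mem⟩ ≠ ι tL := a.ne_t 4 (by decide)
  obtain ⟨z, e1, h0⟩ := a.partner e n t_mem_Wb
  obtain ⟨α, β, h1, h2, h3, h4, h5⟩ := exists_extra
  have k : ∀ v (hv : v ∈ WG L xb), v * v = 1 → ∃ w : L, ι w = g⁻¹ * ι ⟨v, (WG_le hv).1⟩ * g ∧ Commute (w : X) z :=
    fun v hv h2 => by
      have h1 := e1 ▸ a.tr e (ι_comm_t _) n ((a.mem_W (rep_self _) (v := ⟨v, (WG_le hv).1⟩)).2 hv)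
        (a.two_iff.2 (two_of_sq h2))
      obtain ⟨w, hw⟩ := (WG_le h1).1
      exact ⟨w, hw, WG_comm ((a.mem_W (rep_self z)).1 (hw ▸ h1))⟩
  choose A hA cA using fun i => k _ (h1 i).1 (h1 i).2
  choose B hB cB using fun i => k _ (h2 i).1 (h2 i).2
  have k1 : ∀ {u v : L} {p q : L}, ι u = g⁻¹ * ι p * g → ι v = g⁻¹ * ι q * g → Commute (p : X) q → Commute (u : X) v :=
    fun e1 e2 h => (a.comm_iff (rep_self _)).1 (by
      simpa [e1, e2] using ((a.comm_iff (rep_self _)).2 h).map (MulAut.conj g⁻¹))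
  have e2 : ι tL = g⁻¹ * ι ⟨xb, xb_mem⟩ * g := by rw [← e]; group
  refine no_extra (a.sqL (e1 ▸ dc_t.conj' g)) h0 (fun i => A i) (fun i => B i) (fun i => ?_) cA cB
    (fun i j => k1 (hA i) (hA j) (h3 i j)) (fun i j h => k1 (hB i) (hA j) (h4 i j h)) fun i => ?_
  · refine congrArg Subtype.val (a.inj (show ι (A i * A i) = ι 1 from ?_))
    rw [map_mul, hA, ← show (⟨α i, (WG_le (h1 i).1).1⟩ * ⟨α i, (WG_le (h1 i).1).1⟩ : L) = 1 from Subtype.ext (h1 i).2,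
      ← mul_inv_eq_one, map_mul]
    simp [← map_mul, mul_assoc, ← mul_assoc (ι _), show (⟨α i, (WG_le (h1 i).1).1⟩ * ⟨α i, (WG_le (h1 i).1).1⟩ : L) = 1
      from Subtype.ext (h1 i).2]
  · have k2 : ι (B i * A i * (B i)⁻¹) = g⁻¹ * ι (⟨β i, (WG_le (h2 i).1).1⟩ * ⟨α i, (WG_le (h1 i).1).1⟩ *
        ⟨β i, (WG_le (h2 i).1).1⟩⁻¹) * g := by simp only [map_mul, map_inv, hA, hB]; group
    refine (h5 i).imp (fun h => congrArg Subtype.val (a.inj (show ι (B i * A i * (B i)⁻¹) = ι (A i * tL) from ?_)))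
      fun h => congrArg Subtype.val (a.inj (show ι (B i * A i * (B i)⁻¹) = ι (A i * (z * tL)) from ?_))
    · rw [k2, show (_ * _ * _ : L) = ⟨α i, (WG_le (h1 i).1).1⟩ * ⟨xb, xb_mem⟩ from Subtype.ext h, map_mul, map_mul,
        hA, e2]
      group
    · rw [k2, show (_ * _ * _ : L) = ⟨α i, (WG_le (h1 i).1).1⟩ * (tL * ⟨xb, xb_mem⟩) from
        Subtype.ext (h.trans (congrArg _ (t_comm xb).eq)), map_mul, map_mul, map_mul, map_mul, hA, e1]
      nth_rw 3 [e2]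
      group

theorem no_c (d : Dc ι (ι ⟨xc, xc_mem⟩)) : False := by
  obtain ⟨g, e⟩ := id d
  have n : ι ⟨xc, xc_mem⟩ ≠ ι tL := a.ne_t 0 (by decide)
  obtain ⟨l, hl, e1⟩ := conj_xc_xb
  have d1 := (d.of_conj (l := ⟨l, hl⟩) (b := ⟨xc, xc_mem⟩ * ⟨xb, xb_mem⟩) e1).conj' g
  obtain ⟨z, e2⟩ := (WG_le (a.tr e (ι_comm_t _) n ((a.mem_W (rep_self _) (v := ⟨xc, xc_mem⟩ * ⟨xb, xb_mem⟩)).2
    (mul_mem xc_mem_Wc xb_mem_Wc)) (a.two_iff.2 (two_of_sq (ext_dec (by decide)))))).1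
  rw [← e2] at d1
  have e3 : ι tL = g⁻¹ * ι ⟨xc, xc_mem⟩ * g := by rw [← e]; group
  obtain ⟨m, hm, h | h | h | h⟩ := cls_L z.2 (a.sqL d1) (a.neL d1) fun x => by
    rw [show z = tL from Subtype.ext x, e3, mul_left_inj, mul_right_inj] at e2
    exact absurd (congrArg (fun u : L => (ap u (fr 0) : V)) (a.inj e2)) (by decide)
  · exact a.no_a (d1.of_conj (l := ⟨m, hm⟩) h)
  · exact a.no_at d1 h
  · exact a.no_b (d1.of_conj (l := ⟨m, hm⟩) h)
  · obtain ⟨p, hp, e4⟩ := conj_xc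
    have d2 := (d.of_conj (l := (⟨m, hm⟩ : L)⁻¹ * ⟨p, hp⟩) (b := tL * z) (by
      show m⁻¹ * p * xc * (m⁻¹ * p)⁻¹ = t * z
      rw [show m⁻¹ * p * xc * (m⁻¹ * p)⁻¹ = m⁻¹ * (p * xc * p⁻¹) * m by group, e4, ← h, ← (t_comm _).eq]
      nth_rw 2 [← conj_t m⁻¹]
      group)).conj g
    rw [map_mul, e2, e3, show ∀ u v : G, g * (g⁻¹ * u * g * (g⁻¹ * v * g)) * g⁻¹ = u * v from fun u v => by group,
      ← map_mul, ← mul_assoc, show (⟨xc, xc_mem⟩ * ⟨xc, xc_mem⟩ : L) = 1 from Subtype.ext xc_sq, one_mul] at d2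
    exact a.no_b d2

theorem no_inner {z : L} (d : Dc ι (ι z)) : z = tL := by
  by_contra n
  obtain ⟨m, hm, h | h | h | h⟩ := cls_L z.2 (a.sqL d) (a.neL d) fun x => n (Subtype.ext x)
  exacts [a.no_a (d.of_conj (l := ⟨m, hm⟩) h), a.no_at d h, a.no_b (d.of_conj (l := ⟨m, hm⟩) h),
    a.no_c (d.of_conj (l := ⟨m, hm⟩) h)]

theorem no_f (d : Dc ι s) (c : Commute s (ι tL)) (n : s ≠ ι tL) (r : Rep ι s xf) : False := by
  obtain ⟨g, e⟩ := id d
  obtain ⟨l, hl, e1⟩ := conj_xf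
  have d1 := (d.conj (ι ⟨l, hl⟩)).conj' g
  obtain ⟨z, e2⟩ := (WG_le (a.tr e c n ((a.mem_W r (v := ⟨xb, xb_mem⟩)).2 xb_mem_Wf)
    (a.two_iff.2 (two_of_sq xb_sq)))).1
  rw [r.conj_eq (m := ⟨xb, xb_mem⟩) (by rw [e1, mul_inv_cancel_right]), ← e,
    show ∀ u : G, g⁻¹ * (u * (g * ι tL * g⁻¹)) * g = g⁻¹ * u * g * ι tL from fun u => by group, ← e2, ← map_mul] at d1
  rw [mul_eq_right.1 (a.no_inner d1), map_one, eq_comm, mul_assoc, inv_mul_eq_one, eq_comm, mul_eq_right] at e2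
  exact absurd (congrArg (fun u : L => (ap u (fr 0) : V)) ((map_eq_one_iff ι a.inj).1 e2)) (by decide)

/-- every other conjugate of `t` in its centraliser acts as a reflection -/
theorem all_r (d : Dc ι s) (c : Commute s (ι tL)) (n : s ≠ ι tL) :
    ∃ l : L, Rep ι (ι l * s * (ι l)⁻¹) xr := by
  obtain ⟨x, r⟩ := a.rep s c
  obtain ⟨u, hu, l, hl, h⟩ := cls (a.no_i d c n r) (a.rep_ne d c n r).1 (a.rep_ne d c n r).2
  have r1 : Rep ι (ι ⟨l, hl⟩ * s * (ι ⟨l, hl⟩)⁻¹) u :=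
    h.elim (fun e => e ▸ r.conj ⟨l, hl⟩) fun e => Rep.mul_t (e ▸ r.conj ⟨l, hl⟩)
  have d1 := d.conj (ι ⟨l, hl⟩)
  have c1 : Commute (ι ⟨l, hl⟩ * s * (ι ⟨l, hl⟩)⁻¹) (ι tL) :=
    ((ι_comm_t _).mul_left c).mul_left (ι_comm_t _).inv_left
  have n1 : ι ⟨l, hl⟩ * s * (ι ⟨l, hl⟩)⁻¹ ≠ ι tL := fun e => n (by
    rwa [mul_inv_eq_iff_eq_mul, ← (ι_comm_t _).eq, mul_right_inj] at e)
  have k : u ∈ L → u * u = 1 → False := fun h1 h2 => (a.inner d1 (z := ⟨u, h1⟩) r1 h2).elim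
    (fun e => n1 (e.trans (congrArg ι (a.no_inner (e ▸ d1))))) fun e => n1 (e.trans (congrArg ι (a.no_inner (e ▸ d1))))
  simp only [List.mem_cons, List.not_mem_nil, or_false] at hu
  rcases hu with rfl | rfl | rfl | rfl | rfl
  exacts [⟨_, r1⟩, (a.no_f d1 c1 n1 r1).elim, (k xa_mem xa_sq).elim, (k xb_mem xb_sq).elim, (k xc_mem xc_sq).elim]

omit a [Finite G] in
theorem Rep.back {l : L} (r : Rep ι (ι l * s * (ι l)⁻¹) xr) : Rep ι s (rf (ap (l : X)⁻¹ (fr 0))) := by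
  have := r.conj l⁻¹
  rwa [map_inv, show (ι l)⁻¹ * (ι l * s * (ι l)⁻¹) * (ι l)⁻¹⁻¹ = s by group, xr_eq, coe_inv, conj_rf] at this

/-- a product of two reflections -/
abbrev _root_.CfsgLib.StdE8.rr (a b : R) : L := ⟨rf a * rf b, rf_mul_rf_mem a b⟩

omit a [Finite G] in
theorem Rep.perm {u v v' l : _} (r : Rep ι s (rf u)) (e : (l : L) * rf v * (l : X)⁻¹ = rf v') :
    ι l * (ι (rr v u) * s) * (ι l)⁻¹ = ι (rr v' u) * s := by
  rw [← conj_mul, r.conj_eq (m := rr (ap l u) u) (by rw [conj_rf, rf_inv]), ← map_inv, ← map_mul, ← map_mul,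
    ← mul_assoc, ← map_mul]
  congr 2
  refine Subtype.ext ?_
  show l * (rf v * rf u) * (l : X)⁻¹ * (rf (ap l u) * rf u) = rf v' * rf u
  rw [← conj_mul, e, conj_rf, mul_assoc, ← mul_assoc (rf (ap l u)), rf_sq, one_mul]

omit a [Finite G] in
theorem Rep.dc {u : R} (r : Rep ι s (rf u)) (d : Dc ι s) (v : R) : Dc ι (ι (rr v u) * s) := by
  obtain ⟨y, hy⟩ := exists_ap u v
  obtain ⟨l, hl, e⟩ := conj_L (hy ▸ conj_rf y u) (Commute.refl _) (rf_notMem _)
  rw [← Rep.perm (l := ⟨l, hl⟩) r e]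
  refine Dc.conj ?_ _
  rwa [show rr u u = 1 from Subtype.ext (rf_sq u), map_one, one_mul]

omit [Finite G] in
theorem Rep.mul_eq {u : R} (r : Rep ι s (rf u)) (d : Dc ι s) (v w : R) :
    ι (rr v u) * s * (ι (rr w u) * s) = ι (rr v w) := by
  rw [show ∀ p q : G, p * s * (q * s) = p * (s * q * s⁻¹) * (s * s) from fun p q => by group, a.sq d, mul_one, r.eq,
    ← map_mul]
  refine congrArg ι (Subtype.ext ?_)
  show rf v * rf u * (rf u * (rf w * rf u) * (rf u)⁻¹) = rf v * rf w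
  rw [mul_assoc, ← mul_assoc (rf u), ← mul_assoc (rf u), rf_sq]
  group

omit a [Finite G] in
theorem rf_fr_inj {i j : Fin 8} (h : rf (fr i) = rf (fr j)) : i = j := by
  by_contra e
  have h1 := ap_rf_fr j i
  rw [← h, ap_rf_self, if_neg e] at h1
  exact root_ne_neg _ (by rw [← ng_val, h1])

theorem no_r (d : Dc ι s) (c : Commute s (ι tL)) (n : s ≠ ι tL) (r : Rep ι s (rf (fr 0))) : False := by
  obtain ⟨g, e⟩ := id d
  let S : Fin 8 → G := fun j => ι (rr (fr j) (fr 0)) * s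
  have S0 : S 0 = s := by simp only [S]; rw [show rr _ _ = 1 from Subtype.ext (rf_sq _), map_one, one_mul]
  have SS : ∀ j k, S j * S k = ι (rr (fr j) (fr k)) := fun j k => Rep.mul_eq a r d _ _
  have sL : ∀ z, ι z ≠ s := fun z x => rf_notMem (fr 0) (by
    rcases a.uniq r (x ▸ rep_self z) with h | h <;> rw [h]
    exacts [z.2, mul_mem z.2 t_mem])
  let E : Fin 8 → G := Function.update S 0 (ι tL)
  have E0 : E 0 = ι tL := Function.update_self ..
  have E1 : ∀ j, j ≠ 0 → E j = S j := fun j h => Function.update_of_ne h ..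
  have cS : ∀ j k, Commute (S j) (S k) := fun j k => by
    rw [Commute, SemiconjBy, SS, SS]; exact congrArg ι (Subtype.ext (rf_fr_comm j k))
  have cT : ∀ j, Commute (S j) (ι tL) := fun j => (ι_comm_t _).mul_left c
  have dE : ∀ j, Dc ι (g⁻¹ * E j * g) := fun j => Dc.conj' (by
    by_cases h : j = 0
    · rw [h, E0]; exact dc_t
    · rw [E1 j h]; exact Rep.dc r d _) g
  have cE : ∀ j, Commute (g⁻¹ * E j * g) (ι tL) := fun j => comm_conj.1 (by
    rw [e]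
    by_cases h : j = 0
    · rw [h, E0]; exact c.symm
    · rw [E1 j h, ← S0]; exact cS j 0)
  have nE : ∀ j, g⁻¹ * E j * g ≠ ι tL := fun j x => by
    have h1 : E j = s := by rw [← e, ← x]; group
    by_cases h : j = 0
    · exact n (by rw [← h1, h, E0])
    · rw [E1 j h, mul_eq_right, map_eq_one_iff ι a.inj] at h1
      exact h (rf_fr_inj (by simpa only [rf_inv] using eq_inv_of_mul_eq_one_left (congrArg Subtype.val h1)))
  choose ρ hρ using fun j => (a.all_r (dE j) (cE j) (nE j)).elim fun l h => (⟨_, Rep.back h⟩ : ∃ v, Rep ι _ (rf v))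
  have key : ∀ j, g⁻¹ * E j * g = ι (rr (ρ j) (ρ 0)) * (g⁻¹ * E 0 * g) := fun j => by
    by_cases h : j = 0
    · rw [h, show rr _ _ = 1 from Subtype.ext (rf_sq _), map_one, one_mul]
    obtain ⟨z, e1⟩ := (WG_le (a.tr e c n ((a.mem_W r (v := tL * rr (fr j) (fr 0))).2 (xr_eq ▸ trr_mem_Wr h))
      (a.two_iff.2 (two_of_sq (by
        show t * (rf (fr j) * rf (fr 0)) * (t * (rf (fr j) * rf (fr 0))) = 1
        rw [(t_comm _).mul_mul_mul_comm, t_sq, (rf_fr_comm 0 j).mul_mul_mul_comm, rf_sq, rf_sq]; simp))))).1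
    have e2 : g⁻¹ * E j * g * (g⁻¹ * E 0 * g) = ι (z * tL) := by
      rw [map_mul, e1, map_mul, E0, E1 j h, show ι tL = g⁻¹ * s * g by rw [← e]; group, ← show ι tL = g⁻¹ * s * g
        by rw [← e]; group]
      nth_rw 3 [show ι tL = g⁻¹ * s * g by rw [← e]; group]
      rw [show ∀ p q : G, g⁻¹ * p * g * (g⁻¹ * q * g) = g⁻¹ * (p * q) * g from fun p q => by group,
        show ∀ p q : G, g⁻¹ * p * g * (g⁻¹ * q * g) = g⁻¹ * (p * q) * g from fun p q => by group, (cT j).eq, mul_assoc (ι tL)]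
    have e3 : g⁻¹ * E j * g = ι (z * tL) * (g⁻¹ * E 0 * g) := by rw [← e2, mul_assoc _ _ (g⁻¹ * E 0 * g), a.sq (dE 0), mul_one]
    rcases a.uniq ((hρ j).mul (hρ 0)) (e2 ▸ rep_self _) with h1 | h1
    · rw [e3, show rr (ρ j) (ρ 0) = z * tL from Subtype.ext h1]
    · have h2 := (Rep.dc (hρ 0) (dE 0) (ρ j)).conj g
      rw [show rr (ρ j) (ρ 0) = tL * (z * tL) from Subtype.ext (h1.trans (t_comm _).eq), map_mul, mul_assoc (ι tL), ← e3,
        show g * (ι tL * (g⁻¹ * E j * g)) * g⁻¹ = g * ι tL * g⁻¹ * E j by group, e, E1 j h, ← S0, SS] at h2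
      exact (rf_ne_mul_t (fr 0) (fr j) (by
        rw [← show rf (fr 0) * rf (fr j) = t from congrArg Subtype.val (a.no_inner h2), (rf_fr_comm 0 j).eq,
          ← mul_assoc, rf_sq, one_mul])).elim
  have cEE : ∀ i j, Commute (E i) (E j) := fun i j => by
    by_cases h : i = 0 <;> by_cases h' : j = 0
    · rw [h, h']
    · rw [h, E0, E1 j h']; exact (cT j).symm
    · rw [h', E0, E1 i h]; exact cT i
    · rw [E1 i h, E1 j h']; exact cS i j
  have orth : ∀ i j, i ≠ j → dot (ρ i) (ρ j) = 0 := fun i j h => by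
    refine dot_of_comm ?_ fun x => h ?_
    · have h1 : Commute (g⁻¹ * E i * g) (g⁻¹ * E j * g) := by simpa using (cEE i j).map (MulAut.conj g⁻¹)
      rw [key i, key j, Commute, SemiconjBy, Rep.mul_eq a (hρ 0) (dE 0), Rep.mul_eq a (hρ 0) (dE 0)] at h1
      exact congrArg Subtype.val (a.inj h1)
    · have h1 : E i = E j := by
        have := key i
        rw [show rr (ρ i) (ρ 0) = rr (ρ j) (ρ 0) from Subtype.ext (congrArg (· * _) x), ← key j] at this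
        simpa using this
      have k : ∀ j, j ≠ 0 → E 0 ≠ E j := fun j h x => sL ((rr (fr j) (fr 0))⁻¹ * tL) (by
        rw [map_mul, map_inv, ← E0, x, E1 j h, inv_mul_cancel_left])
      by_cases hi : i = 0 <;> by_cases hj : j = 0
      · rw [hi, hj]
      · exact absurd (hi ▸ h1) (k j hj)
      · exact absurd (hj ▸ h1).symm (k i hi)
      · rw [E1 i hi, E1 j hj, mul_left_inj] at h1
        exact rf_fr_inj (mul_right_cancel (congrArg Subtype.val (a.inj h1)))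
  obtain ⟨l, hl, p, q, hp, hq, hpq, h1⟩ := frame_swap ρ orth
  obtain ⟨σ, hσ, π, π1, h2, h3⟩ := frame_not hp hq hpq
  obtain ⟨u, hu⟩ : ∃ u, u = g * ι ⟨l, hl⟩ * g⁻¹ := ⟨_, rfl⟩
  have uE : ∀ j, u * E j * u⁻¹ = E (swap 0 1 (swap p q j)) := fun j => by
    have := Rep.perm (l := ⟨l, hl⟩) (hρ 0) (h1 j)
    rw [← key, ← key] at this
    rw [hu, show ∀ x y : G, g * x * g⁻¹ * y * (g * x * g⁻¹)⁻¹ = g * (x * (g⁻¹ * y * g) * x⁻¹) * g⁻¹ from
      fun x y => by group, this]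
    group
  have f1 : swap p q 1 = 1 := swap_apply_of_ne_of_ne (by omega) (by omega)
  have f0 : swap p q 0 = 0 := swap_apply_of_ne_of_ne (by omega) (by omega)
  have uT : u * ι tL * u⁻¹ = S 1 := by rw [← E0, uE, f0, swap_apply_left, E1 1 (by decide)]
  have u1 : u * S 1 * u⁻¹ = ι tL := by rw [← E1 1 (by decide), uE, f1, swap_apply_right, E0]
  have uS : ∀ j, j ≠ 1 → u * S j * u⁻¹ = S (swap p q j) := fun j h => by
    by_cases h0 : j = 0
    · rw [h0, f0, S0, ← e, hu, show ∀ x y : G, g * x * g⁻¹ * (g * y * g⁻¹) * (g * x * g⁻¹)⁻¹ =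
        g * (x * y * x⁻¹) * g⁻¹ from fun x y => by group, (ι_comm_t _).eq, mul_inv_cancel_right]
    · have h4 : swap p q j ≠ 0 := fun x => h0 ((swap p q).injective (x.trans f0.symm))
      rw [← E1 j h0, uE, swap_apply_of_ne_of_ne h4 fun x => h ((swap p q).injective (x.trans f1.symm)), E1 _ h4]
  have σS : ∀ j, ι ⟨σ, hσ⟩ * S j * (ι ⟨σ, hσ⟩)⁻¹ = S (π j) := fun j => Rep.perm (l := ⟨σ, hσ⟩) r (h2 j)
  have k : ∀ x : G, u * ι ⟨σ, hσ⟩ * u⁻¹ * (u * x * u⁻¹) * (u * ι ⟨σ, hσ⟩ * u⁻¹)⁻¹ =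
      u * (ι ⟨σ, hσ⟩ * x * (ι ⟨σ, hσ⟩)⁻¹) * u⁻¹ := fun x => by group
  obtain ⟨x, rx⟩ := a.rep (u * ι ⟨σ, hσ⟩ * u⁻¹) (mul_inv_eq_iff_eq_mul.1 (by rw [← u1, k, σS, π1]))
  have hS : ∀ j, u * ι ⟨σ, hσ⟩ * u⁻¹ * S j * (u * ι ⟨σ, hσ⟩ * u⁻¹)⁻¹ = S (swap p q (π (swap p q j))) := fun j => by
    by_cases h : j = 1
    · rw [h, f1, π1, f1, ← uT, k, (ι_comm_t _).eq, mul_inv_cancel_right]
    · have h4 : swap p q j ≠ 1 := fun x => h ((swap p q).injective (x.trans f1.symm))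
      have h5 := uS _ h4
      rw [swap_apply_self] at h5
      rw [← h5, k, σS, uS _ fun x => h4 (π.injective (x.trans π1.symm))]
  refine h3 x fun j k => congrArg Subtype.val (a.inj (show ι (cl x (rr (fr j) (fr k))) = ι (rr _ _) from ?_))
  rw [← rx.eq, ← SS, ← conj_mul, hS, hS, SS]

theorem main (d : Dc ι s) (c : Commute s (ι tL)) : s = ι tL := by
  by_contra n
  obtain ⟨l, r⟩ := a.all_r d c n
  exact a.no_r (d.conj (ι l)) (((ι_comm_t _).mul_left c).mul_left (ι_comm_t _).inv_left) (fun e => n (by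
    rwa [mul_inv_eq_iff_eq_mul, ← (ι_comm_t _).eq, mul_right_inj] at e)) (xr_eq ▸ r)

end Sit

open Cfsg in
theorem normal [Finite G] (hO : oddCore G = ⊥) {A : Subgroup G} (hA : IsStandardSubgroup A) (φ : A ≃* L)
    (hR : ∀ R : Sylow 2 (centralizer (A : Set G)), IsCyclic (R : Subgroup (centralizer (A : Set G)))) : A.Normal := by
  have h := good0.map φ.symm
  have b := fx_of hA h
  let ι : L →* G := A.subtype.comp φ.symm.toMonoidHom
  have hr : ι.range = A := by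
    rw [MonoidHom.range_comp, MonoidHom.range_eq_top.2 φ.symm.surjective, ← MonoidHom.range_eq_map, range_subtype]
  have a : Sit ι (centralizer (A : Set G)) := {
    fx := hr.symm ▸ b
    inj := A.subtype_injective.comp φ.symm.injective
    rep := fun c hc => by
      obtain ⟨x, hx⟩ := aut_L (back φ.symm (aut ((norm_iff hA h).2 hc)))
      refine ⟨x, fun l m e => ?_⟩
      rw [show m = _ from Subtype.ext (e.trans (hx l).symm), back_apply]
      simp [ι, aut_apply]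
    cK := fun k hk => mem_cent.2 fun l hl => by simpa [ι] using (hk (φ ⟨l, hl⟩)).symm
    inv := fun k hk h2 => by
      refine or_iff_not_imp_left.2 fun h1 => ?_
      let T : centralizer (A : Set G) := ⟨_, b.tK⟩
      have oT : orderOf T = 2 := by rw [← orderOf_coe]; exact b.toHalf.ord
      have ok : orderOf (⟨k, hk⟩ : centralizer (A : Set G)) = 2 := by
        rw [← orderOf_coe]; exact orderOf_eq_prime (by rwa [pow_two]) h1
      obtain ⟨S, hS⟩ := (IsPGroup.of_card (p := 2) (n := 1) (G := zpowers (⟨k, hk⟩ : centralizer (A : Set G)))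
        (by rw [Nat.card_zpowers, ok, pow_one])).exists_le_sylow
      have h3 := S.is_maximal' ((IsPGroup.of_card (p := 2) (n := 1) (G := zpowers T)
        (by rw [Nat.card_zpowers, oT, pow_one])).to_sup_of_normal_left' S.isPGroup' fun x _ =>
          mem_normalizer_fintype fun y hy => by
            obtain ⟨n, rfl⟩ := hy
            have : Commute x T := Subtype.ext (b.cK x.2)
            simp only [(this.zpow_right n).eq, mul_inv_cancel_right]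
            exact ⟨n, rfl⟩) le_sup_right
      exact congrArg Subtype.val (Transfer.eq_of_orderOf_eq_two_of_isCyclic (hR S) (hS (mem_zpowers _))
        ((le_sup_left.trans h3.le) (mem_zpowers T)) ok oT) }
  by_cases h0 : ι tL ∈ center G
  · exact normalizer_eq_top_iff.1 (eq_top_iff.2 fun c _ => (norm_iff hA h).2 (mem_center_iff.1 h0 c))
  obtain ⟨g, h1, h2⟩ := a.fx.toHalf.exists_conj hO h0
  exact absurd (a.main ⟨g, rfl⟩ h1) h2

end CfsgLib.StdE8
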