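import Mathlib
import Cfsg.Prelude.Def_Classical
import Cfsg.Agent.Lib.StdE8.Det
import Cfsg.Agent.Lib.Orth.Matrix
import Cfsg.Agent.Lib.Orth.CartanDieudonne

/-!
# `W(E₈) / {± 1} ≅ O₈⁺(2)`
-/

set_option autoImplicit false

namespace CfsgLib.StdE8

open Subgroup Equiv Cfsg Matrix

/-- the space `Λ / 2Λ` -/
abbrev V2 : Type := Fin 4 ⊕ Fin 4 → ZMod 2

/-- `O₈⁺(2)` -/
abbrev O8 : Type := isometryGroup (ZMod 2) (quadFormPlus 4 (ZMod 2))

/-- the matrix of an element of `O₈⁺(2)` -/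
abbrev mO (g : O8) : Matrix (Fin 4 ⊕ Fin 4) (Fin 4 ⊕ Fin 4) (ZMod 2) := (g : GL (Fin 4 ⊕ Fin 4) (ZMod 2))

namespace Pi

open CfsgLib.Orth QuadraticMap

/-- the index set -/
abbrev I8 : Type := Fin 4 ⊕ Fin 4

/-- first summands of a hyperbolic basis -/
def bu : I8 → R :=
  Sum.elim ![rt [-2, -2], rt [0, -2, 0, -2], rt [0, 0, -2, -2], rt [0, 0, 0, 2, -2]]
    ![rt [2, 0, 0, -2], rt [0, 2, 2], rt [0, 0, -2, -2], rt [0, -2, 0, 2]]

/-- second summands of a hyperbolic basis -/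
def bw : I8 → R :=
  Sum.elim ![rt [1, -1, -1, 1, 1, -1, 1, -1], rt [0, 0, 0, 0, 0, -2, 0, -2], rt [0, 0, 0, 0, 0, 2, 2], rt [0, 0, 0, 0, 0, 0, -2, -2]]
    ![rt [-2, 0, 0, -2], rt [0, 0, 0, 2, 0, 0, 0, 2], rt [0, 0, 0, 0, 2, 2], rt [0, 0, 0, 0, 2, 0, -2]]

/-- the dual basis -/
def bd : I8 → V :=
  Sum.elim ![mk [-4], mk [2, 0, 4, 0, 2, 2, 2, -4], mk [2, -2, 4, 0, 0, 4, 2, -2], mk [-2, 0, 2, 0, 0, 2, 0, -2]]
    ![mk [-3, -1, 1, -1, -1, 1, -1, 1], mk [-2, 0, 6, 0, 2, 4, 2, -4], mk [-2, 2, 0, 0, 2, 0, 0, -2], mk [2, -2, 2, 0, 0, 2]]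

/-- the even part of the norm form -/
def rest (a : I8 → ℤ) : ℤ :=
  a (.inl 0) * a (.inl 0) + a (.inr 0) * a (.inr 0) + a (.inl 1) * a (.inl 1) + a (.inr 1) * a (.inr 1) +
    a (.inl 2) * a (.inl 2) + a (.inr 2) * a (.inr 2) + a (.inl 3) * a (.inl 3) + a (.inr 3) * a (.inr 3) +
    (-1) * a (.inl 0) * a (.inr 0) + (1) * a (.inl 0) * a (.inl 1) + (-1) * a (.inl 0) * a (.inr 1) +
    (1) * a (.inl 0) * a (.inr 3) + (1) * a (.inr 0) * a (.inl 1) + (-1) * a (.inr 0) * a (.inr 1) +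
    (1) * a (.inr 0) * a (.inl 2) + (1) * a (.inr 0) * a (.inr 2) + (-1) * a (.inr 0) * a (.inl 3) +
    (-1) * a (.inr 0) * a (.inr 3) + (-2) * a (.inl 1) * a (.inr 1) + (-1) * a (.inr 1) * a (.inl 2) +
    (-1) * a (.inr 1) * a (.inr 2) + (1) * a (.inl 2) * a (.inr 2) + (-1) * a (.inl 2) * a (.inl 3) +
    (-1) * a (.inl 2) * a (.inr 3) + (-1) * a (.inr 2) * a (.inl 3)

/-- roots over the non-singular vectors -/
def tab : List (List ℤ) :=
  [[], [], [], [], [], [], [], [], [], [], [], [], [], [], [], [], [], [1,-1,1,-1,-1,1,-1,1], [],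
   [1,1,1,1,-1,-1,-1,-1], [], [1,-1,-1,1,-1,-1,1,1], [], [1,1,-1,-1,-1,1,1,-1], [], [1,-1,1,1,1,1,1,-1], [],
   [1,1,1,-1,1,-1,1,1], [], [-1,1,1,1,-1,1,1,1], [], [1,1,-1,1,1,1,-1,1], [], [], [0,0,2,0,0,-2],
   [-1,1,1,1,1,1,1,-1], [], [], [0,0,0,2,0,0,-2], [1,-1,1,1,-1,1,1,1], [], [], [2,2], [1,-1,-1,1,1,-1,1,-1],
   [], [], [0,0,0,0,2,0,0,2], [1,-1,1,-1,1,1,-1,-1], [], [1,1,-1,1,-1,1,-1,-1], [0,0,2,0,0,2], [], [],
   [1,1,1,-1,-1,-1,1,-1], [0,0,0,2,0,0,2], [], [], [1,1,-1,-1,1,1,1,1], [2,-2], [], [], [1,1,1,1,1,-1,-1,1],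
   [0,0,0,0,2,0,0,-2], [], [], [], [], [], [0,0,0,0,2,0,-2], [1,-1,1,-1,1,1,1,1], [2,0,-2],
   [1,1,1,1,1,-1,1,-1], [], [], [], [], [0,0,0,2,0,0,0,2], [1,-1,1,1,-1,1,-1,-1], [0,2,0,0,0,2],
   [1,1,1,-1,-1,-1,-1,1], [], [1,-1,-1,1,1,-1,-1,1], [], [1,1,-1,-1,1,1,-1,-1], [0,0,0,0,2,0,2], [], [2,0,2],
   [], [], [-1,1,1,1,1,1,-1,1], [], [1,1,-1,1,-1,1,1,1], [0,0,0,2,0,0,0,-2], [], [0,2,0,0,0,-2], [], [], [],
   [0,0,0,2,-2], [1,-1,1,1,1,1,-1,1], [2,0,0,0,0,-2], [1,1,-1,1,1,1,1,-1], [], [], [], [], [0,0,0,0,0,0,2,2],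
   [1,-1,1,-1,-1,1,1,-1], [0,2,2], [1,1,-1,-1,-1,1,-1,1], [], [], [], [1,1,1,-1,1,-1,-1,-1], [0,0,0,2,2], [],
   [2,0,0,0,0,2], [], [], [1,-1,-1,-1,1,-1,1,1], [], [1,1,1,1,-1,-1,1,1], [0,0,0,0,0,0,2,-2], [], [0,2,-2],
   [], [], [-1,1,1,-1,1,1,1,1], [], [], [], [], [], [], [], [], [0,2,0,0,0,0,0,2], [1,1,1,-1,-1,1,-1,-1],
   [0,0,0,2,0,2], [1,-1,1,1,-1,-1,-1,1], [2,0,0,0,2], [1,1,-1,1,-1,-1,1,-1], [0,0,2,0,0,0,2],
   [1,-1,-1,-1,-1,1,1,1], [], [1,1,1,1,1,1,1,1], [], [1,-1,1,-1,1,-1,1,-1], [], [1,1,-1,-1,1,-1,-1,1], [],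
   [1,-1,-1,1,1,1,-1,-1], [0,2,0,0,0,0,0,-2], [], [0,0,0,2,0,-2], [], [2,0,0,0,-2], [], [0,0,2,0,0,0,-2], [],
   [], [], [2,0,0,0,0,0,0,-2], [1,1,-1,1,1,-1,1,1], [], [], [0,2,0,0,-2], [1,1,1,-1,1,1,-1,1], [0,0,2,2],
   [1,-1,-1,1,-1,1,-1,1], [], [], [0,0,0,0,0,2,2], [1,-1,1,-1,-1,-1,1,1], [], [], [], [1,-1,-1,-1,1,1,1,-1],
   [2,0,0,0,0,0,0,2], [], [], [1,-1,1,1,1,-1,-1,-1], [0,2,0,0,2], [], [0,0,2,-2], [], [],
   [-1,-1,1,1,1,1,1,1], [0,0,0,0,0,2,-2], [], [], [1,1,1,1,-1,1,1,-1], [], [], [], [], [0,2,0,-2],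
   [1,1,1,1,-1,1,-1,1], [0,0,0,0,0,2,0,-2], [-1,1,-1,1,1,1,1,1], [2,0,0,0,0,0,2], [1,1,-1,1,1,-1,-1,-1],
   [0,0,2,0,2], [1,-1,-1,-1,1,1,-1,1], [], [], [], [], [], [1,1,-1,-1,-1,-1,1,1], [], [1,-1,-1,1,-1,1,1,-1],
   [0,2,0,2], [], [0,0,0,0,0,2,0,2], [], [2,0,0,0,0,0,-2], [], [0,0,2,0,-2], [], [], [1,1,1,-1,1,1,1,-1], [],
   [1,-1,1,1,1,-1,1,1], [], [], [0,2,0,0,0,0,-2], [1,1,1,-1,-1,1,1,1], [0,0,2,0,0,0,0,-2],
   [-1,1,1,1,1,-1,1,1], [], [], [0,0,0,0,2,2], [1,-1,1,-1,1,-1,-1,1], [], [], [], [], [2,0,0,2],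
   [1,1,-1,-1,1,-1,1,-1], [], [1,-1,1,1,-1,-1,1,-1], [0,2,0,0,0,0,2], [], [0,0,2,0,0,0,0,2], [], [],
   [1,1,-1,1,-1,-1,-1,1], [0,0,0,0,2,-2], [], [], [1,1,1,1,1,1,-1,-1], [], [1,-1,-1,1,1,1,1,1], [2,0,0,-2],
   []]

/-- coordinates -/
def co (v : V) (k : I8) : ℤ := dot v (bd k) / 4

/-- coordinates modulo two -/
def cc (v : V) : V2 := fun k => (co v k : ZMod 2)

/-- the position in the table -/
def code (w : V2) : ℕ := (w (.inl 0)).val + 2 * (w (.inl 1)).val + 4 * (w (.inl 2)).val +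
  8 * (w (.inl 3)).val + 16 * (w (.inr 0)).val + 32 * (w (.inr 1)).val + 64 * (w (.inr 2)).val +
  128 * (w (.inr 3)).val

/-- the vector with given coordinates -/
def vec (a : I8 → ℤ) : V := ∑ k, a k • ((bu k : V) + bw k)

theorem tab_ok : ∀ w : V2, quadFormPlus 4 (ZMod 2) w = 1 →
    IsRoot (mk (tab.getD (code w) [])) ∧ cc (mk (tab.getD (code w) [])) = w := by
  decide +kernel

theorem sum_two : ∀ w : V2, quadFormPlus 4 (ZMod 2) w = 1 ∨
    ∃ x, quadFormPlus 4 (ZMod 2) x = 1 ∧ quadFormPlus 4 (ZMod 2) (w - x) = 1 := by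
  decide +kernel

theorem bd_inL : ∀ k, InL (bd k) := by decide

theorem cc_basis : ∀ k, cc (bu k) + cc (bw k) = Pi.single k 1 := by decide +kernel

theorem cc_fr : cc (fr 0) ≠ cc (fr 1) := by decide +kernel

theorem dot_co {v : V} (hv : InL v) (k : I8) : dot v (bd k) = 4 * co v k :=
  (Int.mul_ediv_cancel' (hv.dot_mod (bd_inL k))).symm

theorem vec_dot (v : V) : vec (fun k => dot v (bd k)) = (4 : ℤ) • v := by
  funext i
  fin_cases i <;>
    simp [vec, Fintype.sum_sum_type, Fin.sum_univ_four, bu, bw, bd, rt, mk, dot] <;> ring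

theorem vec_co {v : V} (hv : InL v) : vec (co v) = v := by
  have h := vec_dot v
  simp only [dot_co hv, vec, mul_smul, ← Finset.smul_sum] at h
  exact smul_right_injective V (by norm_num : (4 : ℤ) ≠ 0) h

theorem dot_vec (a : I8 → ℤ) :
    dot (vec a) (vec a) = 8 * (∑ i, a (.inl i) * a (.inr i) + 2 * rest a) := by
  simp [vec, Fintype.sum_sum_type, Fin.sum_univ_four, bu, bw, rt, mk, dot, rest]
  ring

theorem dot_self {v : V} (hv : InL v) :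
    dot v v = 8 * (∑ i, co v (.inl i) * co v (.inr i) + 2 * rest (co v)) := by
  rw [← dot_vec, vec_co hv]

theorem Q_cc {v : V} (hv : InL v) : qPlus 4 (ZMod 2) (cc v) = ((dot v v / 8 : ℤ) : ZMod 2) := by
  rw [dot_self hv, Int.mul_ediv_cancel_left _ (by norm_num), qPlus_apply]
  push_cast
  rw [show (2 : ZMod 2) = 0 from rfl, zero_mul, add_zero]
  rfl

theorem cc_sub_smul {u v : V} (hu : InL u) (hv : InL v) (c : ℤ) :
    cc (u - c • v) = cc u - (c : ZMod 2) • cc v := by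
  funext k
  have : co (u - c • v) k = co u k - c * co v k := by
    rw [co, dot_sub, dot_smul, dot_co hu, dot_co hv, mul_left_comm, ← mul_sub,
      Int.mul_ediv_cancel_left _ (by norm_num)]
  rw [cc, this]
  simp [cc]

theorem inL_add {u v : V} (hu : InL u) (hv : InL v) : InL (u + v) := by
  simpa using hu.sub_smul hv (-1)

theorem cc_add {u v : V} (hu : InL u) (hv : InL v) : cc (u + v) = cc u + cc v := by
  have := cc_sub_smul hu hv (-1)
  rwa [Int.cast_neg, Int.cast_one, neg_smul, neg_smul, one_smul, one_smul, sub_neg_eq_add,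
    sub_neg_eq_add] at this

theorem inL_zero : InL 0 := by decide

theorem cc_zero : cc 0 = 0 := by decide

theorem cc_sum {ι : Type*} (s : Finset ι) (a : ι → ℤ) {x : ι → V} (hx : ∀ k, InL (x k)) :
    InL (∑ k ∈ s, a k • x k) ∧ cc (∑ k ∈ s, a k • x k) = ∑ k ∈ s, (a k : ZMod 2) • cc (x k) := by
  classical
  induction s using Finset.induction_on with
  | empty => exact ⟨inL_zero, cc_zero⟩
  | insert i s hi ih =>
    rw [Finset.sum_insert hi, Finset.sum_insert hi, ← ih.2, add_comm, add_comm (_ • cc _)]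
    have h1 := ih.1.sub_smul (hx i) (-a i)
    have h2 := cc_sub_smul ih.1 (hx i) (-a i)
    rw [neg_smul, sub_neg_eq_add] at h1 h2
    exact ⟨h1, by rw [h2, Int.cast_neg, neg_smul, sub_neg_eq_add]⟩

theorem B_cc {u v : V} (hu : InL u) (hv : InL v) :
    polar (qPlus 4 (ZMod 2)) (cc u) (cc v) = ((dot u v / 4 : ℤ) : ZMod 2) := by
  have h1 : dot (u + v) (u + v) = dot u u + dot v v + 2 * dot u v := by
    rw [dot_add, dot_comm u, dot_comm v, dot_add, dot_add, dot_comm v u]; ring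
  have h2 := dot_self hu
  have h3 := dot_self hv
  have h4 := hu.dot_mod hv
  rw [polar, ← cc_add hu hv, Q_cc hu, Q_cc hv, Q_cc (inL_add hu hv), ← Int.cast_sub, ← Int.cast_sub]
  congr 1
  omega

theorem Q_root (v : R) : qPlus 4 (ZMod 2) (cc v) = 1 := by
  rw [Q_cc v.2.1, v.2.2]; rfl

theorem exists_root {w : V2} (h : quadFormPlus 4 (ZMod 2) w = 1) : ∃ v : R, cc v = w :=
  ⟨⟨_, (tab_ok w h).1⟩, (tab_ok w h).2⟩

theorem dot_sum (a : I8 → ℤ) (x : I8 → V) (y : V) :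
    dot (∑ k, a k • x k) y = ∑ k, a k * dot (x k) y := by
  simp only [Fintype.sum_sum_type, Fin.sum_univ_four, dot_add, dot_smul]

/-- the matrix of an element modulo two -/
def mt (g : X) : Matrix I8 I8 (ZMod 2) :=
  Matrix.of fun i k => (cc (ap g (bu k)) + cc (ap g (bw k))) i

theorem mt_mulVec (g : X) (v : R) : mt g *ᵥ cc v = cc (ap g v) := by
  have h1 : (ap g v : V) = ∑ k, co v k • ((ap g (bu k) : V) + ap g (bw k)) := by
    refine eq_of_dot fun a => ?_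
    rw [← ap_ap_inv g a, dot_ap, dot_sum]
    simp only [dot_add, dot_ap]
    simp only [← dot_add]
    rw [← dot_sum]
    exact congrArg (dot · _) (vec_co v.2.1).symm
  rw [h1, (cc_sum _ _ fun k => inL_add (ap g (bu k)).2.1 (ap g (bw k)).2.1).2]
  funext i
  rw [Finset.sum_apply, mulVec, dotProduct]
  refine Finset.sum_congr rfl fun k _ => ?_
  rw [cc_add (ap g (bu k)).2.1 (ap g (bw k)).2.1, Pi.smul_apply, smul_eq_mul]
  exact mul_comm _ _

theorem mat_ext {M N : Matrix I8 I8 (ZMod 2)} (h : ∀ v : R, M *ᵥ cc v = N *ᵥ cc v) : M = N := by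
  ext i k
  have : M *ᵥ Pi.single k 1 = N *ᵥ Pi.single k 1 := by
    rw [← cc_basis, mulVec_add, mulVec_add, h, h]
  simpa using congrFun this i

/-- the representation modulo two -/
def mtH : X →* Matrix I8 I8 (ZMod 2) where
  toFun := mt
  map_one' := mat_ext fun v => by rw [mt_mulVec, ap_one, one_mulVec]
  map_mul' g h := mat_ext fun v => by rw [← mulVec_mulVec, mt_mulVec, mt_mulVec, mt_mulVec, ap_mul]

theorem mt_Q (g : X) (w : V2) : quadFormPlus 4 (ZMod 2) (mt g *ᵥ w) = quadFormPlus 4 (ZMod 2) w := by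
  rcases sum_two w with h | ⟨x, h1, h2⟩
  · obtain ⟨v, rfl⟩ := exists_root h
    rw [mt_mulVec, h]
    exact Q_root _
  · obtain ⟨u, rfl⟩ := exists_root h1
    obtain ⟨v, hv⟩ := exists_root h2
    obtain rfl : w = cc u + cc v := by rw [hv, add_sub_cancel]
    have h3 := B_cc u.2.1 v.2.1
    have h4 := B_cc (ap g u).2.1 (ap g v).2.1
    rw [dot_ap, ← h3, polar, polar, Q_root, Q_root, Q_root, Q_root, sub_left_inj, sub_left_inj] at h4
    rw [mulVec_add, mt_mulVec, mt_mulVec]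
    exact h4

/-- the homomorphism onto `O₈⁺(2)` -/
noncomputable def piH : X →* O8 :=
  mtH.toHomUnits.codRestrict _ fun g => mem_isometryGroup.2 (mt_Q g)

theorem mO_piH (g : X) : mO (piH g) = mt g := rfl

theorem cc_ng (v : R) : cc (ng v) = cc v := by
  have := cc_sub_smul inL_zero v.2.1 1
  rw [ng_val]
  funext k
  simpa [cc_zero, ZMod.neg_eq_self_mod_two] using congrFun this k

theorem eq_of_cc {u v : R} (h : cc u = cc v) : u = v ∨ u = ng v := by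
  have h1 := B_cc u.2.1 v.2.1
  rw [h, polar_self', show (2 : ZMod 2) = 0 from rfl, zero_mul] at h1
  rcases dot_cases u v with e | e | e | e | e
  · exact Or.inl (Subtype.ext e)
  · exact Or.inr (Subtype.ext (e.trans (ng_val v).symm))
  · obtain ⟨g, h2, h3⟩ := exists_ap2 e
    exact absurd (by rw [← h2, ← h3, ← mt_mulVec, ← mt_mulVec, h]) cc_fr
  · rw [e] at h1; exact absurd h1 (by decide)
  · rw [e] at h1; exact absurd h1 (by decide)

theorem piH_eq_one (g : X) : piH g = 1 ↔ g = 1 ∨ g = t := by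
  constructor
  · intro h
    have h1 : ∀ a, rf (ap g a) = rf a := fun a => by
      have := mt_mulVec g a
      rw [← mO_piH, h] at this
      rcases eq_of_cc (this.symm.trans (one_mulVec _)) with e | e <;> rw [e]
      exact rf_ng a
    have h2 := eq_top_of_rf (H := centralizer {g}) fun a => mem_centralizer_singleton_iff.2
      (mul_inv_eq_iff_eq_mul.1 ((conj_rf g a).trans (h1 a))).symm
    exact cent_L fun l _ => (mem_centralizer_singleton_iff.1 (h2 ▸ mem_top l)).symm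
  · rintro (rfl | rfl)
    · exact map_one _
    · refine Subtype.ext (Units.ext (mat_ext fun v => ?_))
      exact (mt_mulVec t v).trans ((cc_ng v).trans (one_mulVec _).symm)

theorem piH_surjective : Function.Surjective piH := by
  have h := reflSubgroup_eq_top (qPlus_nondegenerate (F := ZMod 2) 4) (Or.inr (by simp))
  rw [reflSubgroup_eq_closure] at h
  have h1 : ((toOG (qPlus 4 (ZMod 2))).toMonoidHom.comp piH).range = ⊤ := by
    refine eq_top_iff.2 (h ▸ (closure_le _).2 ?_)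
    rintro _ ⟨w, hw, rfl⟩
    obtain ⟨a, rfl⟩ := exists_root (w := w) (by
      change qPlus 4 (ZMod 2) w = 1
      revert hw; generalize qPlus 4 (ZMod 2) w = x; revert x; decide)
    refine ⟨rf a, (val_eq_reflectionMatrix_iff _ _ _).1 (mat_ext fun v => ?_)⟩
    rw [reflectionMatrix_mulVec, Orth.refl_apply, Q_root, inv_one, one_mul, B_cc a.2.1 v.2.1, dot_comm,
      ← cc_sub_smul v.2.1 a.2.1]
    exact mt_mulVec (rf a) v
  intro y
  obtain ⟨g, hg⟩ := h1.ge (mem_top (toOG (qPlus 4 (ZMod 2)) y))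
  exact ⟨g, (toOG (qPlus 4 (ZMod 2))).injective hg⟩

end Pi

theorem exists_pi : ∃ (π : X →* O8) (c : R → V2), Function.Surjective π ∧ (∀ g, π g = 1 ↔ g = 1 ∨ g = t) ∧
    (∀ g v, mO (π g) *ᵥ c v = c (ap g v)) ∧ (∀ v, quadFormPlus 4 (ZMod 2) (c v) = 1) ∧
    (∀ w, quadFormPlus 4 (ZMod 2) w = 1 → ∃ v, c v = w) ∧ ∀ u v, c u = c v → u = v ∨ u = ng v :=
  ⟨Pi.piH, fun v => Pi.cc v, Pi.piH_surjective, Pi.piH_eq_one, Pi.mt_mulVec, Pi.Q_root,
    fun _ => Pi.exists_root, fun _ _ => Pi.eq_of_cc⟩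

end CfsgLib.StdE8
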